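import Mathlib

/-!
# Semilinear endomorphisms: fixed vectors
-/

set_option autoImplicit false
noncomputable section

universe u v

open Finset

namespace Groth.Agent.SigmaLin

variable {k : Type u} [Field k] {σ : k →+* k} {V : Type v} [AddCommGroup V] [Module k V]

/-- The first solvability condition. -/
def Cond2 (σ : k →+* k) : Prop :=
  ∀ (n : ℕ) (b : Fin (n + 1) → k), b ≠ 0 → ∃ x : k, x ≠ 0 ∧
    x = ∑ i : Fin (n + 1), (⇑σ)^[i.val + 1] x * (⇑σ)^[i.val] (b (Fin.rev i))

/-- The second solvability condition. -/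
def Cond3 (σ : k →+* k) : Prop := ∀ c : k, ∃ y : k, σ y - y + c = 0

/-- A fixed vector in the span of an orbit. -/
theorem exists_fixed [FiniteDimensional k V] (h2 : Cond2 σ) (T : V →ₛₗ[σ] V) (e : V)
    (he : ∀ m : ℕ, (⇑T)^[m] e ≠ 0) :
    ∃ v ∈ Submodule.span k (Set.range fun m : ℕ => (⇑T)^[m] e), v ≠ 0 ∧ T v = v := by
  classical
  set o : ℕ → V := fun m => (⇑T)^[m] e
  have hex : ∃ n, ¬ LinearIndependent k fun i : Fin (n + 1) => o i := ⟨Module.finrank k V, fun h => by
    have := h.fintype_card_le_finrank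
    simp at this⟩
  obtain ⟨n, hn, hmin⟩ : ∃ n, (¬ LinearIndependent k fun i : Fin (n + 1 + 1) => o i) ∧
      LinearIndependent k fun i : Fin (n + 1) => o i := by
    have h0 : Nat.find hex ≠ 0 := fun h => by
      have := Nat.find_spec hex
      rw [h] at this
      refine this (Fintype.linearIndependent_iff.2 fun g hg i => ?_)
      simp [Fin.eq_zero, o] at hg
      rw [Fin.eq_zero i]
      exact hg.resolve_right (he 0)
    obtain ⟨n, hn⟩ := Nat.exists_eq_succ_of_ne_zero h0
    refine ⟨n, ?_, not_not.1 (Nat.find_min hex (show n < Nat.find hex by omega))⟩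
    have := Nat.find_spec hex
    rwa [hn] at this
  have hmem : o (n + 1) ∈ Submodule.span k (Set.range fun i : Fin (n + 1) => o i) := by
    by_contra hne
    refine hn ?_
    rw [linearIndependent_fin_succ']
    exact ⟨hmin, hne⟩
  obtain ⟨b, hb⟩ := (Submodule.mem_span_range_iff_exists_fun k).1 hmem
  have hb0 : b ≠ 0 := fun h => he (n + 1) (by
    show o (n + 1) = 0
    rw [← hb, h]; simp)
  obtain ⟨x, hx0, hx⟩ := h2 n b hb0
  let B : ℕ → k := fun j => if h : j < n + 1 then b ⟨j, h⟩ else 0
  let c : ℕ → k := fun j => ∑ i ∈ range (j + 1), (⇑σ)^[i + 1] x * (⇑σ)^[i] (B (j - i))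
  have hcn : c n = x := by
    refine Eq.trans ?_ hx.symm
    simp only [c]
    rw [← Fin.sum_univ_eq_sum_range (fun i => (⇑σ)^[i + 1] x * (⇑σ)^[i] (B (n - i)))]
    refine sum_congr rfl fun i _ => ?_
    congr 2
    simp only [B]
    rw [dif_pos (by omega)]
    exact congrArg b (Fin.ext (by simp [Fin.val_rev]))
  have hrec : ∀ j, c (j + 1) = σ (c j) + σ x * B (j + 1) := fun j => by
    simp only [c]
    rw [sum_range_succ' _ (j + 1), map_sum]
    congr 1
    refine sum_congr rfl fun i hi => ?_
    rw [mem_range] at hi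
    rw [map_mul, Function.iterate_succ_apply' _ (i + 1) x, show j + 1 - (i + 1) = j - i by omega,
      Function.iterate_succ_apply' _ i (B (j - i))]
  set v := ∑ j ∈ range (n + 1), c j • o j with hv
  refine ⟨v, Submodule.sum_mem _ fun j _ => Submodule.smul_mem _ _ (Submodule.subset_span ⟨j, rfl⟩), fun h0 => ?_, ?_⟩
  · have := Fintype.linearIndependent_iff.1 hmin (fun i => c i) (by
      rw [Fin.sum_univ_eq_sum_range (fun j => c j • o j)]; exact h0) ⟨n, by omega⟩
    simp only [hcn] at this
    exact hx0 this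
  · have hbs : o (n + 1) = ∑ j ∈ range (n + 1), B j • o j := by
      rw [← hb, ← Fin.sum_univ_eq_sum_range (fun j => B j • o j)]
      exact sum_congr rfl fun i _ => by simp only [B, dif_pos i.2, Fin.eta]
    have hTo : ∀ j, T (o j) = o (j + 1) := fun j => (Function.iterate_succ_apply' _ j e).symm
    rw [hv, map_sum]
    simp only [T.map_smulₛₗ, hTo]
    rw [sum_range_succ (fun j => σ (c j) • o (j + 1)) n, hcn, hbs, smul_sum, sum_range_succ' (fun j => c j • o j) n,
      sum_range_succ' (fun j => σ x • B j • o j) n, ← add_assoc, ← sum_add_distrib]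
    congr 1
    · refine sum_congr rfl fun j _ => ?_
      rw [hrec, add_smul, smul_smul]
    · simp [c, smul_smul]

/-- The set of fixed vectors. -/
def fixedSet (T : V →ₛₗ[σ] V) : Set V := {v | T v = v}

theorem sub_surjective_of_span (h3 : Cond3 σ) (T : V →ₛₗ[σ] V) (h : Submodule.span k (fixedSet T) = ⊤) (v : V) :
    ∃ w, w - T w = v := by
  have hv : v ∈ Submodule.span k (fixedSet T) := h ▸ trivial
  obtain ⟨n, c, t, rfl⟩ := Submodule.mem_span_set'.1 hv
  choose y hy using h3
  refine ⟨∑ i, y (c i) • (t i : V), ?_⟩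
  rw [map_sum, ← sum_sub_distrib]
  refine sum_congr rfl fun i _ => ?_
  rw [T.map_smulₛₗ, show T (t i : V) = t i from (t i).2, ← sub_smul]
  congr 1
  linear_combination -(hy (c i))

theorem span_fixed_eq_top [FiniteDimensional k V] (h2 : Cond2 σ) (h3 : Cond3 σ) (T : V →ₛₗ[σ] V)
    (h1 : Submodule.span k (Set.range ⇑T) = ⊤) : Submodule.span k (fixedSet T) = ⊤ := by
  classical
  set F := Submodule.span k (fixedSet T)
  by_contra hne
  have hFT : ∀ v ∈ F, T v ∈ F := fun v hv => by
    induction hv using Submodule.span_induction with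
    | mem y hy => rw [show T y = y from hy]; exact Submodule.subset_span hy
    | zero => rw [map_zero]; exact zero_mem _
    | add a b _ _ ha hb => rw [map_add]; exact add_mem ha hb
    | smul r a _ ha => rw [T.map_smulₛₗ]; exact F.smul_mem _ ha
  let Tq : (V ⧸ F) →ₛₗ[σ] (V ⧸ F) := F.liftQ (F.mkQ.comp T) (fun v hv => by
    simpa using hFT v hv)
  have hTq : ∀ v, Tq (F.mkQ v) = F.mkQ (T v) := fun v => rfl
  have hspan : Submodule.span k (Set.range ⇑Tq) = ⊤ := by
    rw [eq_top_iff, ← LinearMap.range_eq_top.2 F.mkQ_surjective, LinearMap.range_eq_map, ← h1, Submodule.map_span]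
    refine Submodule.span_mono ?_
    rintro _ ⟨_, ⟨v, rfl⟩, rfl⟩
    exact ⟨F.mkQ v, hTq v⟩
  let bq := Module.finBasis k (V ⧸ F)
  have hli : LinearIndependent k (Tq ∘ bq) := by
    refine linearIndependent_of_top_le_span_of_card_eq_finrank (le_of_eq ?_) (by simp)
    rw [← hspan]
    refine le_antisymm (Submodule.span_le.2 ?_) (Submodule.span_mono ?_)
    · rintro _ ⟨z, rfl⟩
      rw [← bq.sum_repr z, map_sum]
      exact Submodule.sum_mem _ fun i _ => by
        rw [Tq.map_smulₛₗ]; exact Submodule.smul_mem _ _ (Submodule.subset_span ⟨i, rfl⟩)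
    · rintro _ ⟨i, rfl⟩; exact ⟨_, rfl⟩
  have hinj : Function.Injective Tq := (injective_iff_map_eq_zero _).2 fun z hz => by
    rw [← bq.sum_repr z, map_sum] at hz
    simp only [Tq.map_smulₛₗ] at hz
    rw [← bq.sum_repr z]
    refine sum_eq_zero fun i _ => ?_
    have := Fintype.linearIndependent_iff.1 hli _ hz i
    rw [(map_eq_zero σ).1 this, zero_smul]
  obtain ⟨e, he⟩ : ∃ e, F.mkQ e ≠ 0 := by
    by_contra! hall
    exact hne (eq_top_iff.2 fun v _ => (Submodule.Quotient.mk_eq_zero F).1 (hall v))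
  obtain ⟨z, -, hz0, hz⟩ := exists_fixed h2 Tq (F.mkQ e) fun m => by
    induction m with
    | zero => exact he
    | succ m ih => rw [Function.iterate_succ_apply']; exact fun h => ih (hinj (h.trans (map_zero _).symm))
  obtain ⟨v, rfl⟩ := F.mkQ_surjective z
  rw [hTq, Submodule.mkQ_apply, Submodule.mkQ_apply, Submodule.Quotient.eq] at hz
  let TF : F →ₛₗ[σ] F := (T.comp F.subtype).codRestrict F fun w => hFT w w.2
  have hspanF : Submodule.span k (fixedSet TF) = ⊤ := by
    refine eq_top_iff.2 ?_
    rintro ⟨w, hw⟩ -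
    induction hw using Submodule.span_induction with
    | mem y hy => exact Submodule.subset_span (Subtype.ext hy)
    | zero => exact zero_mem _
    | add a b ha hb iha ihb => exact add_mem (iha) (ihb)
    | smul r a ha iha => exact Submodule.smul_mem _ r iha
  obtain ⟨w, hw⟩ := sub_surjective_of_span h3 TF hspanF ⟨_, hz⟩
  have hw' : (w : V) - T w = T v - v := congrArg Subtype.val hw
  have hfix : T (v + w) = v + w := by rw [map_add]; linear_combination (norm := abel) -hw'
  refine hz0 ?_
  rw [Submodule.mkQ_apply, Submodule.Quotient.mk_eq_zero]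
  have hmem : v + (w : V) ∈ F := Submodule.subset_span hfix
  simpa using sub_mem hmem w.2

theorem exists_fixed_basis [FiniteDimensional k V] (T : V →ₛₗ[σ] V) (h : Submodule.span k (fixedSet T) = ⊤) :
    ∃ b : Module.Basis (Fin (Module.finrank k V)) k V, ∀ i, T (b i) = b i := by
  let b := Module.Basis.ofSpan h.ge
  haveI : Finite ((linearIndepOn_empty k (id : V → V)).extend (Set.empty_subset (fixedSet T))) :=
    Module.Finite.finite_basis b
  haveI := Fintype.ofFinite ((linearIndepOn_empty k (id : V → V)).extend (Set.empty_subset (fixedSet T)))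
  let e := Fintype.equivFinOfCardEq (Module.finrank_eq_card_basis b).symm
  refine ⟨b.reindex e, fun i => ?_⟩
  rw [Module.Basis.reindex_apply]
  exact Module.Basis.ofSpan_subset h.ge ⟨_, rfl⟩

/-- The spans of the images of the iterates. -/
def imSpan (T : V →ₛₗ[σ] V) (n : ℕ) : Submodule k V := Submodule.span k (Set.range ((⇑T)^[n]))

theorem map_imSpan (T : V →ₛₗ[σ] V) (n : ℕ) :
    Submodule.span k (T '' (imSpan T n : Set V)) = imSpan T (n + 1) := by
  refine le_antisymm (Submodule.span_le.2 ?_) (Submodule.span_le.2 ?_)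
  · rintro _ ⟨v, hv, rfl⟩
    induction hv using Submodule.span_induction with
    | mem y hy =>
      obtain ⟨z, rfl⟩ := hy
      exact Submodule.subset_span ⟨z, Function.iterate_succ_apply' _ _ _⟩
    | zero => rw [map_zero]; exact zero_mem _
    | add a b _ _ ha hb => rw [map_add]; exact add_mem ha hb
    | smul r a _ ha => rw [T.map_smulₛₗ]; exact Submodule.smul_mem _ _ ha
  · rintro _ ⟨z, rfl⟩
    exact Submodule.subset_span ⟨_, Submodule.subset_span ⟨z, rfl⟩, (Function.iterate_succ_apply' _ _ _).symm⟩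

theorem main [FiniteDimensional k V] (h2 : Cond2 σ) (h3 : Cond3 σ) (T : V →ₛₗ[σ] V) :
    Function.Surjective (fun v : V => v - T v) ∧
      ∃ b : Module.Basis (Fin (Module.finrank k ↥(⨅ n : ℕ, imSpan T n))) k ↥(⨅ n : ℕ, imSpan T n),
        ∀ i, T (b i : V) = (b i : V) := by
  set I := ⨅ n : ℕ, imSpan T n
  have hmono : Antitone (imSpan T) := antitone_nat_of_succ_le fun n => Submodule.span_mono (by
    rintro _ ⟨z, rfl⟩; exact ⟨T z, (Function.iterate_succ_apply _ _ _).symm⟩)
  obtain ⟨N, hN⟩ := (monotone_stabilizes_iff_artinian (R := k) (M := V)).2 inferInstance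
    ⟨fun n => OrderDual.toDual (imSpan T n), fun a b hab => hmono hab⟩
  have hst : ∀ m, N ≤ m → imSpan T m = imSpan T N := fun m hm => congrArg OrderDual.ofDual (hN m hm).symm
  have hI : I = imSpan T N := le_antisymm (iInf_le _ _) (le_iInf fun m => by
    rcases le_total N m with h | h
    · exact (hst m h).ge
    · exact hmono h)
  have hTI : ∀ v ∈ I, T v ∈ I := fun v hv => by
    rw [hI] at hv ⊢
    rw [← hst (N + 1) (Nat.le_succ N), ← map_imSpan]
    exact Submodule.subset_span ⟨v, hv, rfl⟩
  let TI : I →ₛₗ[σ] I := (T.comp I.subtype).codRestrict I fun w => hTI w w.2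
  have hspan : Submodule.span k (Set.range ⇑TI) = ⊤ := by
    refine Submodule.map_injective_of_injective I.injective_subtype ?_
    rw [Submodule.map_span, Submodule.map_top, Submodule.range_subtype, ← Set.range_comp]
    conv_rhs => rw [hI, ← hst (N + 1) (Nat.le_succ N), ← map_imSpan, ← hI]
    congr 1
    ext z
    constructor
    · rintro ⟨w, rfl⟩; exact ⟨w, w.2, rfl⟩
    · rintro ⟨w, hw, rfl⟩; exact ⟨⟨w, hw⟩, rfl⟩
  have hfix := span_fixed_eq_top h2 h3 TI hspan
  obtain ⟨b, hb⟩ := exists_fixed_basis TI hfix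
  refine ⟨fun v => ?_, b, fun i => congrArg Subtype.val (hb i)⟩
  have htel : ∀ m, ∃ w, v = (w - T w) + (⇑T)^[m] v := by
    intro m
    induction m with
    | zero => exact ⟨0, by simp⟩
    | succ m ih =>
      obtain ⟨w, hw⟩ := ih
      refine ⟨w + (⇑T)^[m] v, ?_⟩
      rw [map_add, Function.iterate_succ_apply']
      conv_lhs => rw [hw]
      abel
  obtain ⟨w, hw⟩ := htel N
  obtain ⟨u, hu⟩ := sub_surjective_of_span h3 TI hfix ⟨(⇑T)^[N] v, hI ▸ Submodule.subset_span ⟨v, rfl⟩⟩
  refine ⟨w + u, ?_⟩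
  have hu' : (u : V) - T u = (⇑T)^[N] v := congrArg Subtype.val hu
  show w + (u : V) - T (w + u) = v
  rw [map_add]
  linear_combination (norm := abel) hu' - hw

end Groth.Agent.SigmaLin
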