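import Groth.Agent.SigmaLin.Field

/-!
# Semilinear endomorphisms over a local ring with nilpotent principal maximal ideal
-/

set_option autoImplicit false
noncomputable section

universe u v

open Finset

namespace Groth.Agent.SigmaLin

variable {p : ℕ} {R : Type u} [CommRing R] [IsLocalRing R]
  (hmax : IsLocalRing.maximalIdeal R = Ideal.span {(p : R)}) {n : ℕ} (hn : (p : R) ^ n = 0) {σ : R →+* R}
  {σbar : IsLocalRing.ResidueField R →+* IsLocalRing.ResidueField R}
  (hσbar : ∀ r : R, σbar (IsLocalRing.residue R r) = IsLocalRing.residue R (σ r))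

local notation "kk" => IsLocalRing.ResidueField R

section

variable {M : Type v} [AddCommGroup M] [Module R M] (T : M →ₛₗ[σ] M)

/-- `M / pM`. -/
abbrev Red (R : Type u) [CommRing R] [IsLocalRing R] (M : Type v) [AddCommGroup M] [Module R M] :=
  M ⧸ (IsLocalRing.maximalIdeal R • ⊤ : Submodule R M)

instance redModule : Module (IsLocalRing.ResidueField R) (Red R M) :=
  inferInstanceAs (Module (R ⧸ IsLocalRing.maximalIdeal R) (Red R M))

instance redTower : IsScalarTower R (IsLocalRing.ResidueField R) (Red R M) :=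
  inferInstanceAs (IsScalarTower R (R ⧸ IsLocalRing.maximalIdeal R) (Red R M))

theorem res_smul (r : R) (v : Red R M) : IsLocalRing.residue R r • v = r • v := by
  rw [← IsLocalRing.ResidueField.algebraMap_eq, algebraMap_smul]

include hmax in
theorem exists_smul_of_mem {x : M} (hx : x ∈ (IsLocalRing.maximalIdeal R • ⊤ : Submodule R M)) :
    ∃ y : M, x = (p : R) • y := by
  rw [hmax, Submodule.ideal_span_singleton_smul] at hx
  obtain ⟨y, -, rfl⟩ := (Submodule.mem_smul_pointwise_iff_exists _ _ _).1 hx
  exact ⟨y, rfl⟩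

include hmax hσbar in
theorem exists_red : ∃ Tb : Red R M →ₛₗ[σbar] Red R M,
    ∀ m, Tb (Submodule.Quotient.mk m) = Submodule.Quotient.mk (T m) := by
  have hker : (IsLocalRing.maximalIdeal R • ⊤ : Submodule R M) ≤
      LinearMap.ker ((Submodule.mkQ (IsLocalRing.maximalIdeal R • ⊤ : Submodule R M)).comp T) := fun x hx => by
    obtain ⟨y, rfl⟩ := exists_smul_of_mem hmax hx
    simp only [LinearMap.mem_ker, LinearMap.comp_apply, Submodule.mkQ_apply, T.map_smulₛₗ, map_natCast,
      Submodule.Quotient.mk_eq_zero]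
    exact Submodule.smul_mem_smul (hmax ▸ Ideal.mem_span_singleton_self _) trivial
  let T1 := Submodule.liftQ _ _ hker
  refine ⟨{ toFun := T1, map_add' := map_add T1, map_smul' := fun c x => ?_ }, fun m => rfl⟩
  obtain ⟨r, rfl⟩ := IsLocalRing.residue_surjective c
  rw [res_smul, LinearMap.map_smulₛₗ, hσbar, res_smul]

include hmax hn hσbar in
theorem surjective_sub [Module.Finite R M] (h2 : Cond2 σbar) (h3 : Cond3 σbar) :
    Function.Surjective fun m : M => m - T m := by
  obtain ⟨Tb, hTb⟩ := exists_red hmax hσbar T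
  haveI : Module.Finite kk (Red R M) := Module.Finite.of_restrictScalars_finite R kk _
  have h0 : ∀ x : M, ∃ m y, x = (m - T m) + (p : R) • y := fun x => by
    obtain ⟨v, hv⟩ := (main h2 h3 Tb).1 (Submodule.Quotient.mk x)
    obtain ⟨m, rfl⟩ := Submodule.Quotient.mk_surjective _ v
    simp only [hTb, ← Submodule.Quotient.mk_sub, Submodule.Quotient.eq] at hv
    obtain ⟨y, hy⟩ := exists_smul_of_mem hmax hv
    exact ⟨m, -y, by rw [smul_neg, ← hy]; abel⟩
  choose m y hm using h0
  intro x
  have key : ∀ j, ∃ a z, x = (a - T a) + (p : R) ^ j • z := by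
    intro j
    induction j with
    | zero => exact ⟨0, x, by simp⟩
    | succ j ih =>
      obtain ⟨a, z, hz⟩ := ih
      refine ⟨a + (p : R) ^ j • m z, y z, ?_⟩
      rw [map_add, T.map_smulₛₗ, map_pow, map_natCast, hz, pow_succ, mul_smul]
      conv_lhs => rw [hm z]
      rw [smul_add, smul_sub]
      abel
  obtain ⟨a, z, hz⟩ := key n
  exact ⟨a, by rw [hn, zero_smul, add_zero] at hz; exact hz.symm⟩

/-- The fixed subring. -/
def fixR (σ : R →+* R) : Subring R := RingHom.eqLocus σ (RingHom.id R)

include hmax hσbar in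
theorem exists_fixed_gens [Module.Finite R M]
    (hlift : ∀ x : kk, σbar x = x → ∃ r : R, σ r = r ∧ IsLocalRing.residue R r = x) :
    ∃ s : Finset M, (∀ m ∈ s, T m = m) ∧
      ∀ m : M, T m = m → ∃ z ∈ Submodule.span (fixR σ) (s : Set M), ∃ y, m = z + (p : R) • y := by
  classical
  obtain ⟨Tb, hTb⟩ := exists_red hmax hσbar T
  haveI : Module.Finite kk (Red R M) := Module.Finite.of_restrictScalars_finite R kk _
  let S : Set (Red R M) := Submodule.Quotient.mk '' {m | T m = m}
  have hLI : LinearIndepOn kk (id : Red R M → Red R M) ∅ := linearIndepOn_empty _ _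
  set t := hLI.extend (Set.empty_subset S) with ht
  have htS : t ⊆ S := hLI.extend_subset (Set.empty_subset S)
  have hind : LinearIndepOn kk id t := hLI.linearIndepOn_extend _
  haveI : Finite t := hind.finite
  haveI := Fintype.ofFinite t
  choose f hf using fun v : t => htS v.2
  refine ⟨univ.image f, fun m hm => ?_, fun m hm => ?_⟩
  · obtain ⟨v, -, rfl⟩ := mem_image.1 hm
    exact (hf v).1
  · have hmem : (Submodule.Quotient.mk m : Red R M) ∈ Submodule.span kk (Set.range ((↑) : t → Red R M)) := by
      rw [Subtype.range_coe]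
      exact hLI.subset_span_extend (Set.empty_subset S) ⟨m, hm, rfl⟩
    obtain ⟨c, hc⟩ := (Submodule.mem_span_range_iff_exists_fun kk).1 hmem
    have hcfix : ∀ v, σbar (c v) = c v := by
      have h1 : ∑ v : t, σbar (c v) • (v : Red R M) = ∑ v : t, c v • (v : Red R M) := by
        have := congrArg Tb hc
        rw [hTb, hm, map_sum] at this
        rw [hc, ← this]
        refine sum_congr rfl fun v _ => ?_
        rw [Tb.map_smulₛₗ, ← (hf v).2, hTb, (hf v).1]
      intro v
      rw [← sub_eq_zero]
      exact Fintype.linearIndependent_iff.1 hind (fun v => σbar (c v) - c v)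
        (by simp only [sub_smul, sum_sub_distrib]; exact sub_eq_zero.2 h1) v
    choose r hr hrc using fun v => hlift (c v) (hcfix v)
    refine ⟨∑ v, (⟨r v, hr v⟩ : fixR σ) • f v, Submodule.sum_mem _ fun v _ =>
      Submodule.smul_mem _ _ (Submodule.subset_span (by simp)), ?_⟩
    obtain ⟨y, hy⟩ := exists_smul_of_mem hmax (x := m - ∑ v, r v • f v) (by
      rw [← Submodule.Quotient.mk_eq_zero, Submodule.Quotient.mk_sub, sub_eq_zero, ← hc, ← Submodule.mkQ_apply, map_sum]
      refine sum_congr rfl fun v _ => ?_
      rw [map_smul, Submodule.mkQ_apply, (hf v).2, ← hrc, res_smul])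
    exact ⟨y, by rw [← hy]; exact (add_sub_cancel (∑ v, r v • f v) m).symm⟩

end

include hmax hn hσbar in
theorem fixed_finite_gen {M : Type v} [AddCommGroup M] [Module R M] [Module.Finite R M] (T : M →ₛₗ[σ] M)
    (hlift : ∀ x : kk, σbar x = x → ∃ r : R, σ r = r ∧ IsLocalRing.residue R r = x) :
    ∃ s : Finset M, (∀ m ∈ s, T m = m) ∧
      ∀ m : M, T m = m → ∃ c : M → R, (∀ x ∈ s, σ (c x) = c x) ∧ m = ∑ x ∈ s, c x • x := by
  classical
  let N : ℕ → Submodule R M := fun i => Submodule.map (LinearMap.lsmul R M ((p : R) ^ i)) ⊤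
  have hTN : ∀ i, ∀ x ∈ N i, T x ∈ N i := by
    rintro i _ ⟨y, -, rfl⟩
    exact ⟨T y, trivial, by simp [T.map_smulₛₗ]⟩
  have hfg : ∀ i, Module.Finite R (N i) := fun i => Module.Finite.iff_fg.2 (Module.Finite.fg_top.map _)
  let Ti : ∀ i, N i →ₛₗ[σ] N i := fun i => (T.comp (N i).subtype).codRestrict (N i) fun w => hTN i w w.2
  choose s hs hgen using fun i => (haveI := hfg i; exists_fixed_gens hmax hσbar (Ti i) hlift)
  let S : Finset M := (range n).biUnion fun i => (s i).image Subtype.val
  have hS : ∀ m ∈ S, T m = m := by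
    intro m hm
    simp only [S, mem_biUnion, mem_image] at hm
    obtain ⟨i, -, x, hx, rfl⟩ := hm
    exact congrArg Subtype.val (hs i x hx)
  have key : ∀ j, j ≤ n → ∀ m ∈ N (n - j), T m = m → m ∈ Submodule.span (fixR σ) (S : Set M) := by
    intro j
    induction j with
    | zero =>
      intro _ m hm _
      obtain ⟨y, -, rfl⟩ := hm
      simp [hn]
    | succ j ih =>
      intro hj m hm hT
      set i := n - (j + 1) with hi
      obtain ⟨z, hz, y, hy⟩ := hgen i ⟨m, hm⟩ (Subtype.ext hT)
      have hzS : (z : M) ∈ Submodule.span (fixR σ) (S : Set M) := by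
        have : (z : M) ∈ Submodule.map ((N i).subtype.restrictScalars (fixR σ)) (Submodule.span (fixR σ) (s i : Set (N i))) :=
          ⟨z, hz, rfl⟩
        rw [Submodule.map_span] at this
        refine Submodule.span_mono ?_ this
        rintro _ ⟨x, hx, rfl⟩
        simp only [S, mem_coe, mem_biUnion, mem_image, mem_range]
        exact ⟨i, by omega, x, hx, rfl⟩
      have hy' : m = (z : M) + (p : R) • (y : M) := congrArg Subtype.val hy
      have hfix : T (z : M) = z := by
        have : ∀ x ∈ Submodule.span (fixR σ) (S : Set M), T x = x := fun x hx => by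
          induction hx using Submodule.span_induction with
          | mem a ha => exact hS a ha
          | zero => exact map_zero _
          | add a b _ _ ha hb => rw [map_add, ha, hb]
          | smul r a _ ha =>
            show T ((r : R) • a) = (r : R) • a
            rw [T.map_smulₛₗ, ha]
            exact congrArg (· • a) r.2
        exact this _ hzS
      have hrest := ih (by omega) ((p : R) • (y : M)) (by
        obtain ⟨w, -, hw⟩ := y.2
        refine ⟨w, trivial, ?_⟩
        rw [← hw]
        simp only [LinearMap.lsmul_apply, smul_smul, ← pow_succ']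
        rw [show n - j = i + 1 by omega]) (by
        have : (p : R) • (y : M) = m - z := by rw [hy']; abel
        rw [this, map_sub, hT, hfix])
      rw [hy']
      exact add_mem hzS hrest
  refine ⟨S, hS, fun m hm => ?_⟩
  have hmem := key n le_rfl m (by rw [Nat.sub_self]; exact ⟨m, trivial, by simp⟩) hm
  obtain ⟨c, -, hc⟩ := Submodule.mem_span_finset.1 hmem
  exact ⟨fun x => (c x : R), fun x _ => (c x).2, hc.symm⟩

end Groth.Agent.SigmaLin
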