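import Groth.Agent.SigmaLin.Local
import Groth.Prelude.Def_WittGrp

/-!
# Truncated Witt vectors of an algebraically closed field
-/

set_option autoImplicit false
noncomputable section

universe u v

open Finset Polynomial

namespace Groth.Agent.SigmaLin

variable {p : ℕ} [Fact p.Prime] {F : Type u} [Field F] [CharP F p] [IsAlgClosed F]

theorem exists_root_linearized (n : ℕ) (d : ℕ → F) (h : ∃ j, j ≤ n ∧ d j ≠ 0) :
    ∃ y : F, y ≠ 0 ∧ y ^ p ^ (n + 1) = ∑ l ∈ range (n + 1), d l * y ^ p ^ l := by
  classical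
  have hp := (Fact.out : p.Prime)
  set j := Nat.find h
  obtain ⟨hjn, hdj⟩ := Nat.find_spec h
  have hmin : ∀ l, l < j → d l = 0 := fun l hl => by
    have hd0 := Nat.find_min h hl
    by_contra hd
    exact hd0 ⟨by omega, hd⟩
  set N := p ^ (n + 1) - p ^ j
  set P : F[X] := X ^ N - ∑ l ∈ range (n + 1), C (d l) * X ^ (p ^ l - p ^ j)
  have hNpos : 0 < N := Nat.sub_pos_of_lt (Nat.pow_lt_pow_right hp.one_lt (by omega))
  have hlt : ∀ l ∈ range (n + 1), p ^ l - p ^ j < N := fun l hl => by
    rw [mem_range] at hl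
    have h1 : p ^ l < p ^ (n + 1) := Nat.pow_lt_pow_right hp.one_lt hl
    have h2 : p ^ j < p ^ (n + 1) := Nat.pow_lt_pow_right hp.one_lt (by omega)
    omega
  have hcN : P.coeff N = 1 := by
    rw [coeff_sub, coeff_X_pow_self, finsetSum_coeff, sum_eq_zero fun l hl => ?_, sub_zero]
    rw [coeff_C_mul_X_pow, if_neg (hlt l hl).ne']
  have hdeg : P.degree ≠ 0 := fun h0 => by
    have := le_degree_of_ne_zero (n := N) (p := P) (by rw [hcN]; exact one_ne_zero)
    rw [h0] at this
    exact absurd (WithBot.coe_le_coe.1 this) (by simp; omega)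
  obtain ⟨y, hy⟩ := IsAlgClosed.exists_root P hdeg
  have hy0 : y ≠ 0 := fun h0 => by
    rw [h0, IsRoot, eval_sub, eval_finsetSum, sum_eq_single j] at hy
    · simp [hNpos.ne'] at hy
      exact hdj hy
    · intro l _ hl
      rcases lt_or_gt_of_ne hl with hl | hl
      · simp [hmin l hl]
      · simp [(Nat.sub_pos_of_lt (Nat.pow_lt_pow_right hp.one_lt hl)).ne']
    · intro hh; exact absurd (mem_range.2 (by omega)) hh
  refine ⟨y, hy0, ?_⟩
  simp only [IsRoot, P, eval_sub, eval_finsetSum, eval_pow, eval_X, eval_mul, eval_C, sub_eq_zero] at hy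
  have hN' : N + p ^ j = p ^ (n + 1) := Nat.sub_add_cancel (Nat.pow_le_pow_right hp.pos (by omega))
  rw [← hN', pow_add, hy, sum_mul]
  refine sum_congr rfl fun l _ => ?_
  by_cases hl : l < j
  · simp [hmin l hl]
  · rw [mul_assoc, ← pow_add, Nat.sub_add_cancel (Nat.pow_le_pow_right hp.pos (not_lt.1 hl))]

theorem exists_root_artinSchreier (c : F) : ∃ y : F, y ^ p - y + c = 0 := by
  have hp := (Fact.out : p.Prime)
  have hc : (X ^ p - X + C c : F[X]).coeff p = 1 := by
    simp [coeff_X, hp.ne_one.symm, coeff_C, hp.ne_zero]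
  obtain ⟨y, hy⟩ := IsAlgClosed.exists_root (X ^ p - X + C c : F[X]) fun h0 => by
    have := le_degree_of_ne_zero (n := p) (p := (X ^ p - X + C c : F[X])) (by rw [hc]; exact one_ne_zero)
    rw [h0] at this
    exact absurd (WithBot.coe_le_coe.1 this) (by simp; exact hp.ne_zero)
  exact ⟨y, by simpa [IsRoot] using hy⟩

theorem cond_frobenius {σ : F →+* F} (hσ : ∀ x, σ x = x ^ p) : Cond2 σ ∧ Cond3 σ := by
  refine ⟨fun n b hb => ?_, fun c => by simpa [hσ] using exists_root_artinSchreier (p := p) c⟩
  classical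
  have hp := (Fact.out : p.Prime)
  have hit : ∀ (i : ℕ) (x : F), (⇑σ)^[i] x = x ^ p ^ i := fun i x => by
    induction i with
    | zero => simp
    | succ i ih => rw [Function.iterate_succ_apply', ih, hσ, ← pow_mul, pow_succ]
  obtain ⟨i₀, hi₀⟩ : ∃ i, b (Fin.rev i) ≠ 0 := by
    by_contra! h
    exact hb (funext fun i => by simpa using h (Fin.rev i))
  set P : F[X] := (∑ i : Fin (n + 1), C ((⇑σ)^[i.val] (b (Fin.rev i))) * X ^ (p ^ (i.val + 1) - 1)) - 1
  have hinj : ∀ a c : Fin (n + 1), p ^ (a.val + 1) - 1 = p ^ (c.val + 1) - 1 → a = c := fun a c h => by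
    have h1 := Nat.one_le_pow (a.val + 1) p hp.pos
    have h2 := Nat.one_le_pow (c.val + 1) p hp.pos
    have := Nat.pow_right_injective hp.two_le (show p ^ (a.val + 1) = p ^ (c.val + 1) by omega)
    exact Fin.ext (by omega)
  have hpos : ∀ i : Fin (n + 1), p ^ (i.val + 1) - 1 ≠ 0 := fun i => by
    have := Nat.lt_pow_self hp.one_lt (n := i.val + 1)
    omega
  have hcoef : P.coeff (p ^ (i₀.val + 1) - 1) ≠ 0 := by
    rw [coeff_sub, finsetSum_coeff, sum_eq_single i₀ (fun i _ hi => by
        rw [coeff_C_mul_X_pow, if_neg (fun h => hi (hinj i₀ i h).symm)]) (by simp),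
      coeff_C_mul_X_pow, if_pos rfl, coeff_one, if_neg (hpos i₀), sub_zero, hit]
    exact pow_ne_zero _ hi₀
  obtain ⟨x, hx⟩ := IsAlgClosed.exists_root P fun h0 => by
    have := le_degree_of_ne_zero hcoef
    rw [h0] at this
    exact hpos i₀ (Nat.le_zero.1 (WithBot.coe_le_coe.1 this))
  simp only [IsRoot, P, eval_sub, eval_finsetSum, eval_mul, eval_C, eval_pow, eval_X, eval_one, sub_eq_zero] at hx
  refine ⟨x, fun h0 => ?_, ?_⟩
  · rw [h0, sum_eq_zero fun i _ => by rw [zero_pow (hpos i), mul_zero]] at hx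
    exact zero_ne_one hx
  · conv_lhs => rw [← one_mul x, ← hx, sum_mul]
    refine sum_congr rfl fun i _ => ?_
    rw [hit (i.val + 1), mul_assoc, ← pow_succ, Nat.sub_add_cancel (Nat.one_le_pow _ _ hp.pos), mul_comm]

theorem cond_inv_frobenius {σ : F →+* F} (hσ : ∀ x, σ x ^ p = x) : Cond2 σ ∧ Cond3 σ := by
  classical
  have hp := (Fact.out : p.Prime)
  haveI : Fact (0 < p) := ⟨hp.pos⟩
  have hσ' : ∀ x, σ (x ^ p) = x := fun x => by rw [map_pow]; exact hσ x
  have hit : ∀ (i m : ℕ) (y : F), i ≤ m → (⇑σ)^[i] (y ^ p ^ m) = y ^ p ^ (m - i) := by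
    intro i
    induction i with
    | zero => simp
    | succ i ih =>
      intro m y hm
      rw [Function.iterate_succ_apply', ih m y (by omega), show m - i = (m - (i + 1)) + 1 by omega, pow_succ, pow_mul,
        hσ']
  refine ⟨fun n b hb => ?_, fun c => ?_⟩
  · obtain ⟨j₀, hj₀⟩ := Function.ne_iff.1 hb
    let d : ℕ → F := fun l => if h : l < n + 1 then (⇑σ)^[n - l] (b ⟨l, h⟩) else 0
    obtain ⟨y, hy0, hy⟩ := exists_root_linearized (p := p) n d ⟨j₀.val, by omega, by
      simp only [d, dif_pos j₀.2, Fin.eta]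
      exact (map_ne_zero (⟨⟨⟨(⇑σ)^[n - j₀.val], iterate_map_one σ _⟩, fun x y => iterate_map_mul σ _ x y⟩,
        iterate_map_zero σ _, fun x y => iterate_map_add σ _ x y⟩ : F →+* F)).2 hj₀⟩
    refine ⟨y ^ p ^ (n + 1), pow_ne_zero _ hy0, ?_⟩
    conv_lhs => rw [hy, ← Fin.sum_univ_eq_sum_range (fun l => d l * y ^ p ^ l), ← Equiv.sum_comp Fin.revPerm]
    refine sum_congr rfl fun i _ => ?_
    have hi := i.2
    rw [Fin.revPerm_apply, hit (i.val + 1) (n + 1) y (by omega), Fin.val_rev]
    simp only [d]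
    rw [dif_pos (by omega), mul_comm]
    simp only [show n + 1 - (i.val + 1) = n - i.val by omega, show n - (n - i.val) = i.val by omega]
    congr 3
    exact Fin.ext (by simp [Fin.val_rev])
  · obtain ⟨z, hz⟩ := exists_root_artinSchreier (p := p) (-c)
    exact ⟨z ^ p, by rw [hσ']; linear_combination -hz⟩

variable (p) (k : Type u) [Field k] [CharP k p] [IsAlgClosed k]

local notation "W" n => TruncatedWittVector p n k

omit [IsAlgClosed k] [CharP k p] in
theorem truncMap_fixed_finite (n : ℕ) {f : k →+* k} (hf : ∀ a, f a = a → a ^ p = a) :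
    {r : W n | WittGrp.truncMap p n f r = r}.Finite := by
  classical
  have hroots : {a : k | a ^ p = a}.Finite := by
    have hne : (X ^ p - X : k[X]) ≠ 0 := FiniteField.X_pow_card_sub_X_ne_zero k (Fact.out : p.Prime).one_lt
    refine (Polynomial.finite_setOf_isRoot hne).subset fun a ha => ?_
    simpa [IsRoot, sub_eq_zero] using ha
  refine (Set.Finite.pi' (fun _ : Fin n => hroots)).preimage (f := fun r : W n => fun i => r.coeff i)
    (fun a _ b _ h => TruncatedWittVector.ext (congrFun h)) |>.subset fun r hr i => ?_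
  refine hf _ ?_
  rw [← WittGrp.coeff_truncMap p n f r i]
  exact congrArg (fun z : W n => z.coeff i) hr

theorem witt_main (n : ℕ) {f : k →+* k} (hf : (∀ a, f a = a ^ p) ∨ ∀ a, f a ^ p = a)
    (σ : (W n) →+* W n) (hσ : σ = WittGrp.truncMap p n f)
    (M : Type v) [AddCommGroup M] [Module (W n) M] [Module.Finite (W n) M] (T : M →ₛₗ[σ] M) :
    (Function.Surjective fun m : M => T m - m) ∧ {m : M | T m = m}.Finite := by
  classical
  rcases Nat.eq_zero_or_pos n with rfl | hn
  · haveI : Subsingleton (W 0) := ⟨fun a b => TruncatedWittVector.ext fun i => i.elim0⟩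
    haveI : Subsingleton M := Module.subsingleton (W 0) M
    exact ⟨fun x => ⟨x, Subsingleton.elim _ _⟩, Set.toFinite _⟩
  have hp := (Fact.out : p.Prime)
  haveI : Nontrivial (W n) := ⟨⟨0, 1, fun h => by
    have h0 : ((0 : W n).coeff ⟨0, hn⟩) = ((1 : W n).coeff ⟨0, hn⟩) := congrArg (fun z : W n => z.coeff ⟨0, hn⟩) h
    rw [← map_zero (WittVector.truncate (p := p) (R := k) n), ← map_one (WittVector.truncate (p := p) (R := k) n),
      WittVector.coeff_truncate, WittVector.coeff_truncate] at h0
    simp at h0⟩⟩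
  have hsurj := WittVector.truncate_surjective p n k
  haveI : IsLocalRing (W n) := IsLocalRing.of_surjective' _ hsurj
  have hmax : IsLocalRing.maximalIdeal (W n) = Ideal.span {(p : W n)} := by
    rw [← IsLocalRing.map_maximalIdeal_of_surjective _ hsurj, (WittVector.irreducible p).maximalIdeal_eq,
      Ideal.map_span, Set.image_singleton, map_natCast]
  have hpn : (p : W n) ^ n = 0 := by
    rw [← map_natCast (WittVector.truncate (p := p) (R := k) n), ← map_pow]
    refine TruncatedWittVector.ext fun i => ?_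
    rw [WittVector.coeff_truncate, WittVector.coeff_p_pow_eq_zero (p := p) (R := k) i.2.ne]
    simp
  -- the residue field
  let π : (W n) →+* k :=
    { toFun := fun r => r.coeff ⟨0, hn⟩
      map_one' := by
        rw [← map_one (WittVector.truncate (p := p) (R := k) n), WittVector.coeff_truncate, WittVector.one_coeff_zero]
      map_mul' := fun a b => by
        obtain ⟨a, rfl⟩ := hsurj a
        obtain ⟨b, rfl⟩ := hsurj b
        rw [← map_mul, WittVector.coeff_truncate, WittVector.coeff_truncate, WittVector.coeff_truncate,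
          WittVector.mul_coeff_zero]
      map_zero' := by
        rw [← map_zero (WittVector.truncate (p := p) (R := k) n), WittVector.coeff_truncate, WittVector.zero_coeff]
      map_add' := fun a b => by
        obtain ⟨a, rfl⟩ := hsurj a
        obtain ⟨b, rfl⟩ := hsurj b
        rw [← map_add, WittVector.coeff_truncate, WittVector.coeff_truncate, WittVector.coeff_truncate,
          WittVector.add_coeff_zero] }
  have hπ : Function.Surjective π := fun a => ⟨WittVector.truncate n (WittVector.teichmuller p a), by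
    show (WittVector.truncate n (WittVector.teichmuller p a)).coeff ⟨0, hn⟩ = a
    rw [WittVector.coeff_truncate, WittVector.teichmuller_coeff_zero]⟩
  have hker : RingHom.ker π = IsLocalRing.maximalIdeal (W n) :=
    IsLocalRing.eq_maximalIdeal (RingHom.ker_isMaximal_of_surjective π hπ)
  let e : IsLocalRing.ResidueField (W n) ≃+* k :=
    (Ideal.quotEquivOfEq hker.symm).trans (RingHom.quotientKerEquivOfSurjective hπ)
  have he : ∀ r, e (IsLocalRing.residue _ r) = π r := fun r => rfl
  let σbar : IsLocalRing.ResidueField (W n) →+* IsLocalRing.ResidueField (W n) :=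
    e.symm.toRingHom.comp (f.comp e.toRingHom)
  have hσbar : ∀ r, σbar (IsLocalRing.residue _ r) = IsLocalRing.residue _ (σ r) := fun r => by
    refine e.injective ?_
    show e (e.symm (f (e (IsLocalRing.residue _ r)))) = _
    rw [e.apply_symm_apply, he, he, hσ]
    exact (WittGrp.coeff_truncMap p n f r ⟨0, hn⟩).symm
  haveI : CharP (IsLocalRing.ResidueField (W n)) p := charP_of_injective_ringHom (f := e.symm.toRingHom) e.symm.injective p
  haveI : IsAlgClosed (IsLocalRing.ResidueField (W n)) := IsAlgClosed.of_ringEquiv _ _ e.symm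
  have hcond : Cond2 σbar ∧ Cond3 σbar := by
    rcases hf with hf | hf
    · exact cond_frobenius (p := p) fun x => e.injective (by simp [σbar, hf])
    · exact cond_inv_frobenius (p := p) fun x => e.injective (by simp [σbar, hf])
  refine ⟨fun x => ?_, ?_⟩
  · obtain ⟨m, hm⟩ := surjective_sub hmax hpn hσbar T hcond.1 hcond.2 (-x)
    refine ⟨m, ?_⟩
    show T m - m = x
    rw [← neg_sub, show m - T m = -x from hm, neg_neg]
  · have hlift : ∀ x, σbar x = x → ∃ r : W n, σ r = r ∧ IsLocalRing.residue _ r = x := fun x hx => by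
      have h1 : e x ^ p = e x := by
        have h0 : f (e x) = e x := by simpa [σbar] using congrArg e hx
        rcases hf with hf | hf
        · rw [← hf]; exact h0
        · conv_rhs => rw [← hf (e x)]
          rw [h0]
      have hmem : e x ∈ (⊥ : Subfield k) := (Subfield.mem_bot_iff_pow_eq_self (F := k) (p := p)).2 h1
      obtain ⟨a, ha⟩ : ∃ a : ℕ, (a : k) = e x := by
        haveI : NeZero p := ⟨hp.ne_zero⟩
        rw [← ZMod.fieldRange_castHom_eq_bot p] at hmem
        obtain ⟨z, hz⟩ := hmem
        exact ⟨z.val, by rw [← hz, ← ZMod.natCast_zmod_val z, map_natCast, ZMod.natCast_zmod_val]⟩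
      refine ⟨a, map_natCast σ a, e.injective ?_⟩
      rw [he, map_natCast, ha]
    obtain ⟨s, -, hs⟩ := fixed_finite_gen hmax hpn hσbar T hlift
    have hfin := truncMap_fixed_finite p k n (f := f) fun a ha => by
      rcases hf with hf | hf
      · rw [← hf]; exact ha
      · conv_rhs => rw [← hf a]
        rw [ha]
    haveI := hfin.fintype
    refine Set.Finite.subset (Set.finite_range fun c : s → {r : W n | WittGrp.truncMap p n f r = r} =>
      ∑ x : s, (c x : W n) • (x : M)) fun m hm => ?_
    obtain ⟨c, hc, hmc⟩ := hs m hm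
    refine ⟨fun x => ⟨c x, ?_⟩, ?_⟩
    · have := hc x x.2
      rw [hσ] at this
      exact this
    · rw [hmc]
      exact sum_coe_sort s (fun x => c x • x)

end Groth.Agent.SigmaLin
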