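import Mathlib
import Groth.Agent.SigmaLin.Field

/-!
# Frobenius-semilinear endomorphisms over a separably closed field
-/

set_option autoImplicit false
noncomputable section

universe u v

open Finset Polynomial

namespace Groth.Agent.SigmaLin

variable (k : Type u) [Field k] (p : ℕ) [Fact p.Prime] [CharP k p] (r : ℕ)

/-- The `p^r`-power map. -/
def powQ : k →+* k where
  toFun x := x ^ p ^ r
  map_one' := one_pow _
  map_mul' a b := mul_pow a b _
  map_zero' := zero_pow (pow_ne_zero _ (Fact.out : p.Prime).ne_zero)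
  map_add' a b := add_pow_char_pow a b p r

theorem powQ_apply (x : k) : powQ k p r x = x ^ p ^ r := rfl

theorem powQ_iterate (i : ℕ) (x : k) : (⇑(powQ k p r))^[i] x = x ^ (p ^ r) ^ i := by
  induction i with
  | zero => simp
  | succ i ih => rw [Function.iterate_succ_apply', ih, powQ_apply, ← pow_mul, pow_succ]

theorem cond3 [IsSepClosed k] (hr : 0 < r) : Cond3 (powQ k p r) := by
  intro c
  have hp := (Fact.out : p.Prime)
  have hq : 1 < p ^ r := Nat.one_lt_pow hr.ne' hp.one_lt
  let P : k[X] := X ^ (p ^ r) - X + C c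
  have hc : P.coeff (p ^ r) = 1 := by
    simp [P, coeff_X, hq.ne, coeff_C, hp.ne_zero]
  have hd : P.degree ≠ 0 := fun h0 => by
    have := le_degree_of_ne_zero (n := p ^ r) (p := P) (by rw [hc]; exact one_ne_zero)
    rw [h0] at this
    have h3 : p ^ r ≤ 0 := WithBot.coe_le_coe.1 this
    omega
  have hs : P.Separable := by
    have hd' : derivative P = -1 := by
      simp [P, derivative_X_pow, CharP.cast_eq_zero k p, hr.ne']
    rw [Polynomial.separable_def, hd']
    exact isCoprime_one_right.neg_right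
  obtain ⟨y, hy⟩ := IsSepClosed.exists_root P hd hs
  exact ⟨y, by simpa [P, powQ_apply, IsRoot] using hy⟩

theorem cond2 [IsSepClosed k] (hr : 0 < r) : Cond2 (powQ k p r) := by
  classical
  intro n b hb
  have hp := (Fact.out : p.Prime)
  have hq : 1 < p ^ r := Nat.one_lt_pow hr.ne' hp.one_lt
  obtain ⟨i₀, hi₀⟩ : ∃ i, b (Fin.rev i) ≠ 0 := by
    by_contra! h
    exact hb (funext fun i => by simpa using h (Fin.rev i))
  set q := p ^ r with hqdef
  let c : Fin (n + 1) → k := fun i => (b (Fin.rev i)) ^ q ^ i.val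
  let S : k[X] := ∑ i : Fin (n + 1), C (c i) * X ^ (q ^ (i.val + 1) - 1)
  set P : k[X] := S - 1 with hP
  have hinj : ∀ a c : Fin (n + 1), q ^ (a.val + 1) - 1 = q ^ (c.val + 1) - 1 → a = c := fun a c h => by
    have h1 := Nat.one_le_pow (a.val + 1) q (by omega)
    have h2 := Nat.one_le_pow (c.val + 1) q (by omega)
    have := Nat.pow_right_injective hq (show q ^ (a.val + 1) = q ^ (c.val + 1) by omega)
    exact Fin.ext (by omega)
  have hpos : ∀ i : Fin (n + 1), q ^ (i.val + 1) - 1 ≠ 0 := fun i => by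
    have := Nat.lt_pow_self hq (n := i.val + 1)
    omega
  have hcoef : P.coeff (q ^ (i₀.val + 1) - 1) ≠ 0 := by
    rw [hP, coeff_sub, finsetSum_coeff, sum_eq_single i₀ (fun i _ hi => by
        rw [coeff_C_mul_X_pow, if_neg (fun h => hi (hinj i₀ i h).symm)]) (by simp),
      coeff_C_mul_X_pow, if_pos rfl, coeff_one, if_neg (hpos i₀), sub_zero]
    exact pow_ne_zero _ hi₀
  have hd : X * derivative S = -S := by
    simp only [S, map_sum, mul_sum, ← sum_neg_distrib]
    refine sum_congr rfl fun i _ => ?_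
    have h1 : ((q ^ (i.val + 1) - 1 : ℕ) : k) = -1 := by
      rw [Nat.cast_sub (Nat.one_le_pow _ _ (by omega)), Nat.cast_pow, hqdef, Nat.cast_pow, CharP.cast_eq_zero k p,
        zero_pow hr.ne', zero_pow (Nat.succ_ne_zero _)]
      simp
    rw [derivative_C_mul_X_pow, h1, mul_neg_one, map_neg, neg_mul, mul_neg, neg_inj, mul_left_comm, ← pow_succ',
      Nat.sub_add_cancel (Nat.one_le_iff_ne_zero.2 (hpos i))]
  have hs : P.Separable := by
    rw [Polynomial.separable_def]
    refine ⟨-1, -X, ?_⟩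
    rw [hP, derivative_sub, derivative_one, sub_zero, neg_mul, neg_mul, hd]
    ring
  obtain ⟨x, hx⟩ := IsSepClosed.exists_root P (fun h0 => by
    have := le_degree_of_ne_zero hcoef
    rw [h0] at this
    exact hpos i₀ (Nat.le_zero.1 (WithBot.coe_le_coe.1 this))) hs
  simp only [IsRoot, hP, S, eval_sub, eval_finsetSum, eval_mul, eval_C, eval_pow, eval_X, eval_one, sub_eq_zero] at hx
  refine ⟨x, fun h0 => ?_, ?_⟩
  · rw [h0, sum_eq_zero fun i _ => by rw [zero_pow (hpos i), mul_zero]] at hx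
    exact zero_ne_one hx
  · conv_lhs => rw [← one_mul x, ← hx, sum_mul]
    refine sum_congr rfl fun i _ => ?_
    rw [powQ_iterate, powQ_iterate, mul_assoc, ← pow_succ, Nat.sub_add_cancel (Nat.one_le_pow _ _ (by omega)), mul_comm]

variable {V : Type v} [AddCommGroup V] [Module k V]

/-- A `p^r`-semilinear additive map as a semilinear map. -/
def mkSemi (φ : V →+ V) (hφ : ∀ (c : k) (v : V), φ (c • v) = c ^ (p ^ r) • φ v) : V →ₛₗ[powQ k p r] V where
  toFun := φ
  map_add' := map_add φ
  map_smul' := hφ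

theorem coe_mkSemi (φ : V →+ V) (hφ : ∀ (c : k) (v : V), φ (c • v) = c ^ (p ^ r) • φ v) :
    ⇑(mkSemi k p r φ hφ) = ⇑φ := rfl

theorem iterate_sum_smul (φ : V →+ V) (hφ : ∀ (c : k) (v : V), φ (c • v) = c ^ (p ^ r) • φ v)
    {ι : Type*} (s : Finset ι) (c : ι → k) (b : ι → V) (hb : ∀ i ∈ s, φ (b i) = b i) (n : ℕ) :
    φ^[n] (∑ i ∈ s, c i • b i) = ∑ i ∈ s, c i ^ ((p ^ r) ^ n) • b i := by
  induction n with
  | zero => simp
  | succ n ih =>
    rw [Function.iterate_succ_apply', ih, map_sum]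
    refine sum_congr rfl fun i hi => ?_
    rw [hφ, hb i hi, ← pow_mul, pow_succ (p ^ r) n]

theorem fixed_coeff (φ : V →+ V) (hφ : ∀ (c : k) (v : V), φ (c • v) = c ^ (p ^ r) • φ v)
    {ι : Type*} [Fintype ι] (c : ι → k) (b : ι → V) (hli : LinearIndependent k b) (hb : ∀ i, φ (b i) = b i)
    (n : ℕ) (h : φ^[n] (∑ i, c i • b i) = ∑ i, c i • b i) (i : ι) : c i ^ ((p ^ r) ^ n) = c i := by
  rw [iterate_sum_smul k p r φ hφ univ c b (fun j _ => hb j) n] at h
  exact sub_eq_zero.1 (Fintype.linearIndependent_iff.1 hli (fun j => c j ^ ((p ^ r) ^ n) - c j)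
    (by simp only [sub_smul, sum_sub_distrib, h, sub_self]) i)

end Groth.Agent.SigmaLin
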